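import Groth.Agent.Lib.AbsApprox.IntegralSystem
import Groth.Agent.Lib.AbsApprox.ClosedStage
import Groth.Agent.Lib.AbsApprox.ClosedProps
import Groth.Agent.S7382
import Groth.Agent.Lib.Misc6.LiftClosed
import Mathlib.AlgebraicGeometry.ZariskisMainTheorem

/-!
# Finite envelopes of quasi-finite morphisms
-/

set_option autoImplicit false
set_option backward.isDefEq.respectTransparency false
set_option linter.style.haveILetI false

universe u

open CategoryTheory CategoryTheory.Limits AlgebraicGeometry TopologicalSpace Opposite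

namespace GrothLib.FinEnv6

variable {X S : Scheme.{u}}

/-- Integral morphisms are limits of finite morphisms of finite presentation. -/
theorem exists_integral_system {T : Scheme.{u}} (ν : T ⟶ S) [IsIntegralHom ν] [CompactSpace S]
    [QuasiSeparatedSpace S] :
    ∃ (I : Type u) (_ : Preorder I) (_ : IsDirected I (fun a b => a ≤ b)) (_ : Nonempty I)
      (D : Iᵒᵖ ⥤ Over S) (π : (Functor.const Iᵒᵖ).obj (Over.mk ν) ⟶ D)
      (_ : IsLimit (Cone.mk (Over.mk ν) π)),
      (∀ i, IsFinite (D.obj i).hom ∧ LocallyOfFinitePresentation (D.obj i).hom) ∧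
      (∀ (i j : Iᵒᵖ) (a : i ⟶ j), IsAffineHom (D.map a).left) := by
  obtain ⟨I, _, _, _, D, c, hl, h1, ⟨e⟩⟩ := Groth.Agent.S7382.result ν
  refine ⟨I, inferInstance, inferInstance, inferInstance, D, (c.extend e.inv).π,
    IsLimit.extendIso e.inv hl, h1, fun i j a => ?_⟩
  haveI : IsFinite (D.obj i).hom := (h1 i).1
  haveI : IsFinite (D.obj j).hom := (h1 j).1
  haveI : IsAffineHom ((D.map a).left ≫ (D.obj j).hom) := (Over.w (D.map a)).symm ▸ inferInstance
  exact MorphismProperty.of_postcomp @IsAffineHom (W' := @IsSeparated) (D.map a).left (D.obj j).hom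
    inferInstance inferInstance

section stage

variable {I : Type u} [SmallCategory I] [IsCofiltered I] (D : I ⥤ Scheme.{u}) (c : Cone D)
  (hc : IsLimit c) [∀ (i j : I) (f : i ⟶ j), IsAffineHom (D.map f)]

theorem compactSpace_opensDiagram {i : I} {V : (D.obj i).Opens} (hV : IsCompact (V : Set (D.obj i)))
    (l : Over i) : CompactSpace ↥((opensDiagram D i V).obj l) :=
  isCompact_iff_compactSpace.mp (QuasiCompact.isCompact_preimage (f := D.map l.hom) _ V.2 hV)

theorem quasiSeparatedSpace_opensDiagram [∀ i, QuasiSeparatedSpace (D.obj i)] {i : I} (V : (D.obj i).Opens)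
    (l : Over i) : QuasiSeparatedSpace ↥((opensDiagram D i V).obj l) :=
  (D.map l.hom ⁻¹ᵁ V).ι.isOpenEmbedding.quasiSeparatedSpace

include hc in
/-- A quasi-compact open of the limit comes with a restricted system. -/
theorem exists_restricted_system {X : Scheme.{u}} (j : X ⟶ c.pt) [IsOpenImmersion j] [CompactSpace X] :
    ∃ (i : I) (V : (D.obj i).Opens) (e : X ≅ (opensCone D c i V).pt),
      IsCompact (V : Set (D.obj i)) ∧ e.hom ≫ (c.π.app i ⁻¹ᵁ V).ι = j := by
  obtain ⟨i, V, hV, hVj⟩ := exists_preimage_eq D c hc j.opensRange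
    (by rw [Scheme.Hom.coe_opensRange]; exact isCompact_range j.continuous)
  exact ⟨i, V, j.isoOpensRange ≪≫ (c.pt.isoOfEq hVj).symm, hV, by simp⟩

end stage

/-- A quasi-finite separated morphism of finite type is, up to an open immersion, finite. -/
theorem exists_finite_envelope (f : X ⟶ S) [CompactSpace S] [QuasiSeparatedSpace S]
    [LocallyQuasiFinite f] [LocallyOfFiniteType f] [QuasiCompact f] [IsSeparated f] :
    ∃ (T : Scheme.{u}) (j : X ⟶ T) (π : T ⟶ S),
      IsOpenImmersion j ∧ QuasiCompact j ∧ IsSchemeTheoreticallyDominant j ∧ IsFinite π ∧ j ≫ π = f := by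
  haveI : CompactSpace X := QuasiCompact.compactSpace_of_compactSpace f
  obtain ⟨I, _, _, _, D₀, π₀, hl, h1, h2⟩ := exists_integral_system f.fromNormalization
  let D := D₀ ⋙ Over.forget S
  haveI : ∀ (i j : Iᵒᵖ) (a : i ⟶ j), IsAffineHom (D.map a) := h2
  haveI : ∀ i, CompactSpace (D.obj i) := fun i =>
    haveI := (h1 i).1; QuasiCompact.compactSpace_of_compactSpace (D₀.obj i).hom
  let c := (Over.forget S).mapCone (Cone.mk (Over.mk f.fromNormalization) π₀)
  have hc : IsLimit c := isLimitOfPreserves (Over.forget S) hl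
  obtain ⟨i, V, e, hV, he⟩ := exists_restricted_system D c hc f.toNormalization
  haveI : ∀ l, CompactSpace ↥((opensDiagram D i V).obj l) := compactSpace_opensDiagram D hV
  let top : Over i := Over.mk (𝟙 i)
  haveI : IsClosedImmersion e.hom := inferInstance
  have hres : ∀ l : Over i, (e.hom ≫ (opensCone D c i V).π.app l) ≫ (D.map l.hom ⁻¹ᵁ V).ι =
      f.toNormalization ≫ c.π.app l.left := fun l => by
    rw [Category.assoc, opensCone_π_app, Scheme.Hom.resLE_comp_ι, ← reassoc_of% he]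
  have hw : ∀ l : Iᵒᵖ, (f.toNormalization ≫ c.π.app l) ≫ (D₀.obj l).hom = f := fun l => by
    have h3 : c.π.app l ≫ (D₀.obj l).hom = f.fromNormalization := Over.w (π₀.app l)
    rw [Category.assoc, h3, f.toNormalization_fromNormalization]
  haveI : LocallyOfFiniteType (e.hom ≫ (opensCone D c i V).π.app top) := by
    haveI : LocallyOfFiniteType ((e.hom ≫ (opensCone D c i V).π.app top) ≫
        ((D.map top.hom ⁻¹ᵁ V).ι ≫ (D₀.obj top.left).hom)) := by
      rw [← Category.assoc, hres, hw]; infer_instance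
    exact locallyOfFiniteType_of_comp _ ((D.map top.hom ⁻¹ᵁ V).ι ≫ (D₀.obj top.left).hom)
  obtain ⟨k, hk⟩ := GrothLib.AbsApprox.exists_isClosedImmersion_stage (opensDiagram D i V)
    (opensCone D c i V) (isLimitOpensCone D c hc i V) e.hom top
  let m : X ⟶ (D₀.obj k.left).left := f.toNormalization ≫ c.π.app k.left
  haveI : IsImmersion m := by
    haveI := hk k (𝟙 k)
    show IsImmersion (f.toNormalization ≫ c.π.app k.left)
    rw [← hres k]
    infer_instance
  haveI : IsFinite (D₀.obj k.left).hom := (h1 k.left).1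
  haveI : QuasiCompact m := by
    haveI : QuasiCompact (m ≫ (D₀.obj k.left).hom) := by rw [hw]; infer_instance
    exact QuasiCompact.of_comp m (D₀.obj k.left).hom
  exact ⟨m.image, m.toImage, m.imageι ≫ (D₀.obj k.left).hom, inferInstance,
    QuasiCompact.of_comp m.toImage m.imageι, GrothLib.Misc6.isSchemeTheoreticallyDominant_toImage m,
    inferInstance,
    by rw [Scheme.Hom.toImage_imageι_assoc, hw]⟩

/-- A quasi-finite separated morphism of finite presentation is, up to an open immersion, finite of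
finite presentation. -/
theorem exists_finite_fp_envelope (f : X ⟶ S) [CompactSpace S] [QuasiSeparatedSpace S]
    [LocallyQuasiFinite f] [LocallyOfFinitePresentation f] [QuasiCompact f] [IsSeparated f] :
    ∃ (T : Scheme.{u}) (j : X ⟶ T) (π : T ⟶ S),
      IsOpenImmersion j ∧ QuasiCompact j ∧ IsFinite π ∧ LocallyOfFinitePresentation π ∧ j ≫ π = f := by
  haveI : CompactSpace X := QuasiCompact.compactSpace_of_compactSpace f
  obtain ⟨T, j, π, hj, hjc, -, hπ, hjπ⟩ := exists_finite_envelope f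
  obtain ⟨I, _, _, _, D₀, c₀, hl, h1, h2, -, ⟨e₀⟩⟩ := GrothLib.AbsApprox.exists_finite_system π
  let D := D₀ ⋙ Over.forget S
  haveI hcl : ∀ (i j : Iᵒᵖ) (a : i ⟶ j), IsClosedImmersion (D.map a) := h2
  haveI : ∀ (i j : Iᵒᵖ) (a : i ⟶ j), IsAffineHom (D.map a) := fun i j a => inferInstance
  haveI : ∀ i, CompactSpace (D.obj i) := fun i =>
    haveI := (h1 i).1; QuasiCompact.compactSpace_of_compactSpace (D₀.obj i).hom
  haveI : ∀ i, QuasiSeparatedSpace (D.obj i) := fun i =>
    haveI := (h1 i).1; quasiSeparatedSpace_of_quasiSeparated (D₀.obj i).hom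
  let c := (Over.forget S).mapCone c₀
  have hc : IsLimit c := isLimitOfPreserves (Over.forget S) hl
  let j₀ : X ⟶ c.pt := j ≫ e₀.inv.left
  haveI : IsOpenImmersion j₀ := inferInstanceAs (IsOpenImmersion (j ≫ ((Over.forget S).mapIso e₀).inv))
  obtain ⟨i, V, e, hV, he⟩ := exists_restricted_system D c hc j₀
  let G := opensDiagram D i V
  haveI : ∀ l, CompactSpace ↥(G.obj l) := compactSpace_opensDiagram D hV
  haveI : ∀ l, QuasiSeparatedSpace ↥(G.obj l) := quasiSeparatedSpace_opensDiagram D V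
  haveI : ∀ (l m : Over i) (φ : l ⟶ m), IsClosedImmersion (G.map φ) := fun l m φ => by
    refine MorphismProperty.of_isPullback (P := @IsClosedImmersion)
      (IsOpenImmersion.isPullback ((D.map φ.left).resLE _ (D.map l.hom ⁻¹ᵁ V) _)
        (D.map l.hom ⁻¹ᵁ V).ι (D.map m.hom ⁻¹ᵁ V).ι (D.map φ.left)
        (Scheme.Hom.resLE_comp_ι _ _).symm ?_).flip (hcl _ _ φ.left)
    rw [Scheme.Opens.opensRange_ι, Scheme.Opens.opensRange_ι, ← Scheme.Hom.comp_preimage,
      ← D.map_comp, Over.w φ]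
  let cG := opensCone D c i V
  let tG : G ⟶ (Functor.const (Over i)).obj S :=
    { app := fun l => (D.map l.hom ⁻¹ᵁ V).ι ≫ (D₀.obj l.left).hom
      naturality := fun l m φ => by
        show (D.map φ.left).resLE _ _ _ ≫ (D.map m.hom ⁻¹ᵁ V).ι ≫ _ = _ ≫ 𝟙 S
        rw [Scheme.Hom.resLE_comp_ι_assoc, Category.comp_id]
        exact congrArg _ (Over.w (D₀.map φ.left)) }
  have hπ : ∀ l, cG.π.app l ≫ tG.app l = e.inv ≫ f := fun l => by
    show (c.π.app l.left).resLE _ _ _ ≫ (D.map l.hom ⁻¹ᵁ V).ι ≫ (D₀.obj l.left).hom = _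
    rw [Scheme.Hom.resLE_comp_ι_assoc, ← hjπ, Iso.eq_inv_comp, ← Category.assoc, he, Category.assoc]
    refine congrArg (j ≫ ·) ?_
    have h3 : c.π.app l.left ≫ (D₀.obj l.left).hom = c₀.pt.hom := Over.w (c₀.π.app l.left)
    rw [h3]
    exact Over.w e₀.inv
  obtain ⟨l, r, hr, hrf⟩ := Scheme.exists_π_app_comp_eq_of_locallyOfFinitePresentation G tG f cG
    (isLimitOpensCone D c hc i V) e.inv (by ext l; exact hπ l)
  let u : ∀ l, X ⟶ G.obj l := fun l => e.hom ≫ cG.π.app l
  have hu : u l ≫ r = 𝟙 X := by simp only [u, Category.assoc, hr, Iso.hom_inv_id]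
  have hut : ∀ l, u l ≫ tG.app l = f := fun l => by simp only [u, Category.assoc, hπ, Iso.hom_inv_id_assoc]
  haveI : LocallyOfFiniteType (tG.app l : G.obj l ⟶ S) := by
    haveI : IsFinite (D₀.obj l.left).hom := (h1 l.left).1
    show LocallyOfFiniteType ((D.map l.hom ⁻¹ᵁ V).ι ≫ (D₀.obj l.left).hom)
    infer_instance
  obtain ⟨m, φ, hφ⟩ := Scheme.exists_hom_comp_eq_comp_of_locallyOfFiniteType G tG (tG.app l) cG
    (isLimitOpensCone D c hc i V) (i := l) (r ≫ u l) (𝟙 _)
    (by rw [Category.assoc, hut, hrf]) (Category.id_comp _).symm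
    (by simp only [u, reassoc_of% hr, Iso.inv_hom_id_assoc, Category.comp_id])
  rw [Category.comp_id] at hφ
  have huv : u m ≫ G.map φ = u l := by
    show (e.hom ≫ cG.π.app m) ≫ G.map φ = _
    rw [Category.assoc]
    exact congrArg (e.hom ≫ ·) (cG.w φ)
  haveI : IsIso (u m) := by
    refine ⟨G.map φ ≫ r, by rw [reassoc_of% huv, hu], ?_⟩
    rw [← cancel_mono (G.map φ), Category.id_comp, Category.assoc, Category.assoc, huv]
    exact hφ
  haveI : IsFinite (D₀.obj m.left).hom := (h1 m.left).1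
  let jm : X ⟶ (D₀.obj m.left).left := u m ≫ (D.map m.hom ⁻¹ᵁ V).ι
  haveI : IsOpenImmersion jm := inferInstanceAs (IsOpenImmersion (u m ≫ (D.map m.hom ⁻¹ᵁ V).ι))
  have hjm : jm ≫ (D₀.obj m.left).hom = f := by rw [Category.assoc]; exact hut m
  haveI : QuasiCompact jm := by
    haveI : QuasiCompact (jm ≫ (D₀.obj m.left).hom) := by rw [hjm]; infer_instance
    exact QuasiCompact.of_comp jm (D₀.obj m.left).hom
  exact ⟨_, jm, (D₀.obj m.left).hom, inferInstance, inferInstance, inferInstance, (h1 m.left).2, hjm⟩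

/-- An integral surjective morphism with local lifts is dominated by a finite one of finite presentation. -/
theorem exists_finite_fp_lifts {U T : Scheme.{u}} (g : U ⟶ S) [LocallyOfFinitePresentation g]
    [CompactSpace S] [QuasiSeparatedSpace S] (ν : T ⟶ S) [IsIntegralHom ν] [Surjective ν]
    (h : ∀ t : T, ∃ (V : T.Opens) (r : V.toScheme ⟶ U), t ∈ V ∧ r ≫ g = V.ι ≫ ν) :
    ∃ (S' : Scheme.{u}) (π : S' ⟶ S), Surjective π ∧ IsFinite π ∧ LocallyOfFinitePresentation π ∧
      ∀ y : S', ∃ (V : S'.Opens) (r : V.toScheme ⟶ U), y ∈ V ∧ r ≫ g = V.ι ≫ π := by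
  classical
  haveI : CompactSpace T := QuasiCompact.compactSpace_of_compactSpace ν
  obtain ⟨I, _, _, _, D₀, π₀, hl, h1, h2⟩ := exists_integral_system ν
  let D := D₀ ⋙ Over.forget S
  haveI : ∀ (i j : Iᵒᵖ) (a : i ⟶ j), IsAffineHom (D.map a) := h2
  haveI : ∀ i, CompactSpace (D.obj i) := fun i =>
    haveI := (h1 i).1; QuasiCompact.compactSpace_of_compactSpace (D₀.obj i).hom
  haveI : ∀ i, QuasiSeparatedSpace (D.obj i) := fun i =>
    haveI := (h1 i).1; quasiSeparatedSpace_of_quasiSeparated (D₀.obj i).hom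
  let c := (Over.forget S).mapCone (Cone.mk (Over.mk ν) π₀)
  have hc : IsLimit c := isLimitOfPreserves (Over.forget S) hl
  have hlocal : ∀ t : T, ∃ (i : Iᵒᵖ) (W : (D.obj i).Opens) (r : W.toScheme ⟶ U),
      c.π.app i t ∈ W ∧ r ≫ g = W.ι ≫ (D₀.obj i).hom := fun t => by
    obtain ⟨V, r, htV, hr⟩ := h t
    obtain ⟨V', hV', htV', hle⟩ := exists_isAffineOpen_mem_and_subset (x := t) (U := V) htV
    haveI : CompactSpace V'.toScheme := isCompact_iff_compactSpace.mp hV'.isCompact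
    obtain ⟨i, W, e, hW, he⟩ := exists_restricted_system D c hc V'.ι
    let G := opensDiagram D i W
    haveI : ∀ l, CompactSpace ↥(G.obj l) := compactSpace_opensDiagram D hW
    haveI : ∀ l, QuasiSeparatedSpace ↥(G.obj l) := quasiSeparatedSpace_opensDiagram D W
    let cG := opensCone D c i W
    let tG : G ⟶ (Functor.const (Over i)).obj S :=
      { app := fun l => (D.map l.hom ⁻¹ᵁ W).ι ≫ (D₀.obj l.left).hom
        naturality := fun l m φ => by
          show (D.map φ.left).resLE _ _ _ ≫ (D.map m.hom ⁻¹ᵁ W).ι ≫ _ = _ ≫ 𝟙 S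
          rw [Scheme.Hom.resLE_comp_ι_assoc, Category.comp_id]
          exact congrArg _ (Over.w (D₀.map φ.left)) }
    obtain ⟨l, r', hr'e, hr'⟩ := Scheme.exists_π_app_comp_eq_of_locallyOfFinitePresentation G tG g cG
      (isLimitOpensCone D c hc i W) (e.inv ≫ T.homOfLE hle ≫ r) (by
        ext l
        show (c.π.app l.left).resLE _ _ _ ≫ (D.map l.hom ⁻¹ᵁ W).ι ≫ (D₀.obj l.left).hom =
          (e.inv ≫ T.homOfLE hle ≫ r) ≫ g
        rw [Scheme.Hom.resLE_comp_ι_assoc, Category.assoc, Category.assoc, hr, Scheme.homOfLE_ι_assoc,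
          Iso.eq_inv_comp, reassoc_of% he]
        exact congrArg _ (Over.w (π₀.app l.left)))
    refine ⟨l.left, D.map l.hom ⁻¹ᵁ W, r', ?_, hr'⟩
    have h3 : t ∈ c.π.app i ⁻¹ᵁ W := by
      have h4 : t ∈ Set.range ⇑(e.hom ≫ (c.π.app i ⁻¹ᵁ W).ι) := by
        rw [he]; exact ⟨⟨t, htV'⟩, rfl⟩
      obtain ⟨x, hx⟩ := h4
      rw [← hx, Scheme.Hom.comp_apply]
      exact (e.hom x).2
    show c.π.app l.left t ∈ D.map l.hom ⁻¹ᵁ W
    have h5 : c.π.app l.left t ∈ D.map l.hom ⁻¹ᵁ W ↔ t ∈ (c.π.app l.left ≫ D.map l.hom) ⁻¹ᵁ W := Iff.rfl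
    rw [h5, c.w]
    exact h3
  choose iW W rW hmem hrW using hlocal
  let O' : T → T.Opens := fun x => c.π.app (iW x) ⁻¹ᵁ W x
  obtain ⟨t, ht⟩ := isCompact_univ.elim_finite_subcover (fun x : T => (O' x : Set T))
    (fun x => (O' x).2) (fun x _ => Set.mem_iUnion.2 ⟨x, hmem x⟩)
  obtain ⟨i₁, hi₁⟩ := IsCofiltered.inf_objs_exists (t.image iW)
  let φ : ∀ x : t, i₁ ⟶ iW x.1 := fun x => (hi₁ (Finset.mem_image_of_mem iW x.2)).some
  let O : (D.obj i₁).Opens := ⨆ x : t, D.map (φ x) ⁻¹ᵁ W x.1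
  have hO : c.π.app i₁ ⁻¹ᵁ O = ⊤ := by
    refine top_le_iff.mp fun y _ => ?_
    obtain ⟨x, hx, hy⟩ := Set.mem_iUnion₂.1 (ht (Set.mem_univ y))
    refine Opens.mem_iSup.2 ⟨⟨x, hx⟩, ?_⟩
    have h5 : y ∈ (c.π.app i₁ ≫ D.map (φ ⟨x, hx⟩)) ⁻¹ᵁ W x := by rw [c.w]; exact hy
    exact h5
  obtain ⟨i₂, ψ, hψ⟩ := exists_map_eq_top D c hc O hO
  haveI hsur : Surjective (c.π.app i₂ ≫ (D₀.obj i₂).hom) := by
    have h6 : c.π.app i₂ ≫ (D₀.obj i₂).hom = ν := Over.w (π₀.app i₂)
    rw [h6]; infer_instance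
  refine ⟨D.obj i₂, (D₀.obj i₂).hom, Surjective.of_comp (c.π.app i₂) _, (h1 i₂).1, (h1 i₂).2, fun y => ?_⟩
  obtain ⟨x, hx⟩ := Opens.mem_iSup.1 (hψ.ge (show y ∈ (⊤ : (D.obj i₂).Opens) from trivial))
  refine ⟨D.map (ψ ≫ φ x) ⁻¹ᵁ W x.1, (D.map (ψ ≫ φ x) ∣_ W x.1) ≫ rW x.1, ?_, ?_⟩
  · show D.map (ψ ≫ φ x) y ∈ W x.1
    rw [Functor.map_comp]
    exact hx
  · rw [Category.assoc, hrW, morphismRestrict_ι_assoc]
    exact congrArg _ (Over.w (D₀.map (ψ ≫ φ x)))

end GrothLib.FinEnv6
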